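import Groth.Agent.ResProp.EF.K849.Gal
import Groth.Agent.ResProp.EF.K805.Bridge
import Groth.Agent.ResProp.EF.K761.T2

/-!
# T1 (S16912, FIN): Hopf modules over a `GalLoc` are acyclic
-/

set_option autoImplicit false
set_option linter.style.haveILetI false
universe u

open TensorProduct Groth.Agent.ResProp.EF.K83

namespace Groth.Agent.ResProp.EF.K849

open Groth.Agent.ResProp.EF

variable {R : Type u} [CommRing R] {A : Type u} [CommRing A] [HopfAlgebra R A]
variable {D : Type u} [CommRing D] [Algebra R D] {c : CoAlg R A D} {s : D} (G : GalLoc c s)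

section

variable (N : Type u) [AddCommGroup N] [Module R N] [Module G.Ds N] [IsScalarTower R G.Ds N]
  [Module G.B N] [IsScalarTower G.B G.Ds N] [IsScalarTower R G.B N]
  (co : HopfRep.Comod R A N) (hN : IsHopfMod G.cs N co)

include hN in
theorem rlin : K805.RLin R A G.B co := by
  intro b n
  have h1 : b • n = (algebraMap G.B G.Ds b) • n := (algebraMap_smul G.Ds b n).symm
  rw [h1, hN.smul, K761.rho_algebraMap]
  have h2 : b • co.coact n = (algebraMap G.B G.Ds b) • co.coact n :=
    (algebraMap_smul G.Ds b (co.coact n)).symm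
  rw [h2]
  generalize co.coact n = w
  induction w using TensorProduct.induction_on with
  | zero => simp
  | add x y hx hy => rw [map_add, hx, hy, smul_add]
  | tmul x a =>
    rw [TensorProduct.map₂_apply_tmul, TensorProduct.smul_tmul']
    simp

theorem up_smul (d : G.Ds) (w : N ⊗[R] A) :
    K805.up R A (LinearMap.id : N →ₗ[G.B] N) (d • w) =
      d • (K805.up R A (LinearMap.id : N →ₗ[G.B] N) w : N ⊗[G.B] (G.B ⊗[R] A)) := by
  induction w using TensorProduct.induction_on with
  | zero => simp
  | add x y hx hy => simp only [map_add, smul_add, hx, hy]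
  | tmul x a =>
    rw [TensorProduct.smul_tmul', K805.up_tmul, K805.up_tmul, TensorProduct.smul_tmul']
    rfl

theorem gal_bijective :
    letI := K805.toR co (rlin G N co hN)
    Function.Bijective (gal G.B (G.B ⊗[R] A) G.Ds N) := by
  letI := K805.toR co (rlin G N co hN)
  have h : ⇑(gal G.B (G.B ⊗[R] A) G.Ds N) =
      ⇑(K805.upEquiv R A (LinearEquiv.refl G.B N)) ∘ ⇑(K761.alphaG G N co hN) := by
    funext x
    induction x using TensorProduct.induction_on with
    | zero => simp
    | add x y hx hy => rw [map_add, hx, hy]; simp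
    | tmul d n =>
      rw [gal_tmul, Function.comp_apply, K761.alphaG_tmul]
      change d • K805.up R A (LinearMap.id : N →ₗ[G.B] N) (co.coact n) =
        K805.up R A (LinearMap.id : N →ₗ[G.B] N) (d • co.coact n)
      rw [up_smul]
  rw [h]
  exact (K805.upEquiv R A (LinearEquiv.refl G.B N)).bijective.comp (K761.alphaG_bijective G N co hN)

end

/-- **T1.** -/
theorem T1 (N : Type u) [AddCommGroup N] [Module R N] [Module G.Ds N] [IsScalarTower R G.Ds N]
    (co : HopfRep.Comod R A N) (hN : IsHopfMod G.cs N co) (n : ℕ) :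
    letI := co
    Hoch.cocycles R A N (n + 1) ≤ Hoch.coboundaries R A N (n + 1) := by
  letI : Module G.B N := Module.compHom N (algebraMap G.B G.Ds)
  haveI : IsScalarTower G.B G.Ds N := IsScalarTower.of_algebraMap_smul fun _ _ => rfl
  haveI : IsScalarTower R G.B N := by
    refine IsScalarTower.of_algebraMap_smul fun r x => ?_
    change (algebraMap G.B G.Ds (algebraMap R G.B r)) • x = r • x
    rw [← IsScalarTower.algebraMap_apply, algebraMap_smul]
  letI := co
  letI := K805.toR co (rlin G N co hN)
  intro z hz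
  have hz' : Hoch.d R A N (n + 1) z = 0 := hz
  have h1 : Hoch.d G.B (G.B ⊗[R] A) N (n + 1) (K805.Phi R A G.B N (n + 1) z) = 0 := by
    rw [← K805.Phi_d co (rlin G N co hN), hz']
    letI := (K805.rc R A G.B N (n + 2)).mod
    exact map_zero (K805.Phi R A G.B N (n + 2))
  obtain ⟨w, hw⟩ := acyc_of_galois G.B (G.B ⊗[R] A) G.Ds N (gal_bijective G N co hN) n h1
  letI := (K805.rc R A G.B N n).mod
  letI := (K805.rc R A G.B N (n + 1)).mod
  obtain ⟨y, rfl⟩ := (K805.Phi R A G.B N n).surjective w
  rw [← K805.Phi_d co (rlin G N co hN)] at hw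
  exact ⟨y, (K805.Phi R A G.B N (n + 1)).injective hw⟩

end Groth.Agent.ResProp.EF.K849
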