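import Groth.Agent.Hoch.K915.BaseChange
import Groth.Agent.HopfRep.K187.HochMap
import Mathlib.RingTheory.Flat.FaithfullyFlat.Basic

/-!
# Base change of the Hochschild complex of a comodule; faithfully flat descent of acyclicity (T1, S16912)
-/

set_option autoImplicit false
universe u

open TensorProduct

namespace Groth.Agent.ResProp.EF.K849

section BC

variable (K : Type u) [CommRing K] (A : Type u) [CommRing A] [Bialgebra K A]
  (V : Type u) [AddCommGroup V] [Module K V]
  (R : Type u) [CommRing R] [Algebra K R]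

/-- The comparison `R ⊗ C^n(A, V) → C^n(R ⊗ A, R ⊗ V)`. -/
noncomputable def phi : (n : ℕ) → (R ⊗[K] (Hoch.cochain K A V n : Type u) →ₗ[R]
    (Hoch.cochain R (R ⊗[K] A) (R ⊗[K] V) n : Type u))
  | 0 => LinearMap.id
  | n + 1 => K915.HochBC.ext A (phi n)

theorem phi_zero : phi K A V R 0 = LinearMap.id := rfl

theorem phi_succ (n : ℕ) : phi K A V R (n + 1) = K915.HochBC.ext A (phi K A V R n) := rfl

theorem phi_bijective (n : ℕ) : Function.Bijective (phi K A V R n) := by
  induction n with
  | zero => exact Function.bijective_id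
  | succ n ih =>
    rw [phi_succ]
    exact K915.HochBC.ext_bijective _ ih

variable [HopfRep.Comod K A V]

theorem phi_d (n : ℕ) (x : R ⊗[K] (Hoch.cochain K A V n : Type u)) :
    letI := CoactBr.Comod.baseChange K R A V
    phi K A V R (n + 1) ((Hoch.d K A V n).baseChange R x) =
      Hoch.d R (R ⊗[K] A) (R ⊗[K] V) n (phi K A V R n x) := by
  let _ : HopfRep.Comod R (R ⊗[K] A) (R ⊗[K] V) := CoactBr.Comod.baseChange K R A V
  induction n with
  | zero =>
    have h0 : Hoch.d R (R ⊗[K] A) (R ⊗[K] V) 0 (phi K A V R 0 x) =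
      (CoactBr.Comod.baseChange K R A V).coact x - x ⊗ₜ[R] (1 : R ⊗[K] A) := rfl
    rw [h0]
    have h1 : ∀ x : R ⊗[K] V, K915.HochBC.ext A (phi K A V R 0) (((HopfRep.Comod.coact (k := K) (A := A) :
        V →ₗ[K] V ⊗[K] A) - (TensorProduct.mk K V A).flip 1).baseChange R x) =
        (CoactBr.Comod.baseChange K R A V).coact x - x ⊗ₜ[R] (1 : R ⊗[K] A) := by
      intro x
      induction x using TensorProduct.induction_on with
      | zero => simp
      | add x y hx hy =>
        rw [map_add, map_add, hx, hy, map_add, TensorProduct.add_tmul]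
        abel
      | tmul r v =>
        rw [LinearMap.baseChange_tmul, LinearMap.sub_apply, TensorProduct.tmul_sub, map_sub,
          CoactBr.baseChange_coact_tmul]
        congr 1
        generalize (HopfRep.Comod.coact (k := K) (A := A) v : V ⊗[K] A) = w
        induction w using TensorProduct.induction_on with
        | zero => simp
        | add x y hx hy => simp only [TensorProduct.tmul_add, map_add, hx, hy]
        | tmul x a =>
          have h2 : K915.HochBC.ext A (phi K A V R 0) (r ⊗ₜ[K] (x ⊗ₜ[K] a)) =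
            (r ⊗ₜ[K] x) ⊗ₜ[R] ((1 : R) ⊗ₜ[K] a) := by
            rw [K915.HochBC.ext_tmul]; rfl
          rw [h2]
          change _ = ((1 : R) ⊗ₜ[K] x) ⊗ₜ[R] (r ⊗ₜ[K] a)
          have h3 : r ⊗ₜ[K] x = r • ((1 : R) ⊗ₜ[K] x) := by
            rw [TensorProduct.smul_tmul', smul_eq_mul, mul_one]
          rw [h3, TensorProduct.smul_tmul, TensorProduct.smul_tmul', smul_eq_mul, mul_one]
    exact h1 x
  | succ n ih =>
    have hc : ((-1 : R) ^ (n + 1)) = algebraMap K R ((-1 : K) ^ (n + 1)) := by
      rw [map_pow, map_neg, map_one]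
    exact K915.HochBC.step (phi K A V R n) (Hoch.d K A V n) (Hoch.d R (R ⊗[K] A) (R ⊗[K] V) n)
      ((-1 : K) ^ (n + 1)) ((-1 : R) ^ (n + 1)) hc (fun x => ih x) x

/-- Faithfully flat descent of acyclicity in degree `n + 1`. -/
theorem acyc_of_baseChange [Module.FaithfullyFlat K R] (n : ℕ)
    (h : letI := CoactBr.Comod.baseChange K R A V
      Hoch.cocycles R (R ⊗[K] A) (R ⊗[K] V) (n + 1) ≤ Hoch.coboundaries R (R ⊗[K] A) (R ⊗[K] V) (n + 1)) :
    Hoch.cocycles K A V (n + 1) ≤ Hoch.coboundaries K A V (n + 1) := by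
  let _ : HopfRep.Comod R (R ⊗[K] A) (R ⊗[K] V) := CoactBr.Comod.baseChange K R A V
  have hex : Function.Exact (LinearMap.lTensor R (Hoch.d K A V n))
      (LinearMap.lTensor R (Hoch.d K A V (n + 1))) := by
    intro y
    constructor
    · intro hy
      have h1 : Hoch.d R (R ⊗[K] A) (R ⊗[K] V) (n + 1) (phi K A V R (n + 1) y) = 0 := by
        rw [← phi_d]
        have : (Hoch.d K A V (n + 1)).baseChange R y = 0 := hy
        rw [this, map_zero]
      obtain ⟨w, hw⟩ := h h1
      obtain ⟨x, rfl⟩ := (phi_bijective K A V R n).2 w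
      rw [← phi_d] at hw
      exact ⟨x, (phi_bijective K A V R (n + 1)).1 hw⟩
    · rintro ⟨x, rfl⟩
      rw [← LinearMap.comp_apply, ← LinearMap.lTensor_comp, K915.HochDSq.dd, LinearMap.lTensor_zero,
        LinearMap.zero_apply]
  have hex2 := Module.FaithfullyFlat.lTensor_reflects_exact (R := K) (M := R) _ _ hex
  intro x hx
  exact (hex2 x).mp hx

end BC

end Groth.Agent.ResProp.EF.K849
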