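import Groth.Agent.ResProp.EF.K849.BC

/-!
# T1 (S16912, FIN): Hopf modules over a faithfully flat Hopf - Galois extension are acyclic, one ring form
-/

set_option autoImplicit false
universe u

open TensorProduct

namespace Groth.Agent.ResProp.EF.K849

/-- A comodule which is isomorphic to an induced comodule is acyclic in positive degrees. -/
theorem acyc_of_ind (k : Type u) [CommRing k] (A : Type u) [CommRing A] [Bialgebra k A]
    (V : Type u) [AddCommGroup V] [Module k V] [HopfRep.Comod k A V]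
    (P : Type u) [AddCommGroup P] [Module k P] (f : V →ₗ[k] Hoch.Ind k A P) (hf : Hoch.IsComodHom A f)
    (hb : Function.Bijective f) (n : ℕ) :
    Hoch.cocycles k A V (n + 1) ≤ Hoch.coboundaries k A V (n + 1) := by
  let e : V ≃ₗ[k] Hoch.Ind k A P := LinearEquiv.ofBijective f hb
  have he : (e : V →ₗ[k] Hoch.Ind k A P) = f := by ext; rfl
  have hr : Hoch.IsComodHom A (e.symm : Hoch.Ind k A P →ₗ[k] V) := by
    refine LinearMap.ext fun x => ?_
    obtain ⟨v, rfl⟩ := hb.2 x
    have h1 : HopfRep.Comod.coact (k := k) (A := A) (f v) =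
        f.rTensor A (HopfRep.Comod.coact (k := k) (A := A) v) := LinearMap.congr_fun hf v
    have h2 : e.symm (f v) = v := e.symm_apply_apply v
    have h3 : ∀ z : V ⊗[k] A, (e.symm : Hoch.Ind k A P →ₗ[k] V).rTensor A (f.rTensor A z) = z := by
      intro z
      rw [← LinearMap.comp_apply, ← LinearMap.rTensor_comp, ← he]
      simp
    rw [LinearMap.comp_apply, LinearMap.comp_apply, h1, h3, LinearEquiv.coe_coe, h2]
  have hri : (e.symm : Hoch.Ind k A P →ₗ[k] V) ∘ₗ f = LinearMap.id := by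
    ext v
    exact e.symm_apply_apply v
  refine K187.HochMap.cocycles_le_of_retract k A hf hr hri (n + 1) ?_ (by omega)
  intro x hx
  have hx' : Hoch.d k A (Hoch.Ind k A P) (n + 1) x = 0 := hx
  have h := LinearMap.congr_fun (K915.HochBasic.homotopy k A P n) x
  refine ⟨K915.HochBasic.s k A P n x, ?_⟩
  rw [LinearMap.add_apply, LinearMap.comp_apply, LinearMap.comp_apply, hx', map_zero, zero_add] at h
  exact h

section Galois

variable (B : Type u) [CommRing B] (A : Type u) [CommRing A] [Bialgebra B A]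
  (D : Type u) [CommRing D] [Algebra B D]
  (M : Type u) [AddCommGroup M] [Module B M] [Module D M] [IsScalarTower B D M] [HopfRep.Comod B A M]

/-- `D ⊗ M → M ⊗ A`, `d ⊗ m ↦ d ρ(m)` (`D` acts on the factor `M`). -/
noncomputable def gal : D ⊗[B] M →ₗ[D] M ⊗[B] A :=
  AlgebraTensorModule.lift
    ((LinearMap.toSpanSingleton D (M →ₗ[B] M ⊗[B] A) (HopfRep.Comod.coact (k := B) (A := A))))

theorem gal_tmul (d : D) (m : M) :
    gal B A D M (d ⊗ₜ[B] m) = d • (HopfRep.Comod.coact (k := B) (A := A) m : M ⊗[B] A) := rfl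

/-- `D ⊗ M → M ⊗_D (D ⊗ A)`, the induced comodule over `D`. -/
noncomputable def galInd : D ⊗[B] M →ₗ[D] Hoch.Ind D (D ⊗[B] A) M :=
  (AlgebraTensorModule.cancelBaseChange B D D M A).symm.toLinearMap ∘ₗ gal B A D M

theorem galInd_bijective (h : Function.Bijective (gal B A D M)) : Function.Bijective (galInd B A D M) :=
  (AlgebraTensorModule.cancelBaseChange B D D M A).symm.bijective.comp h

omit [HopfRep.Comod B A M] in
theorem cancel_symm_tmul (m : M) (a : A) :
    (AlgebraTensorModule.cancelBaseChange B D D M A).symm (m ⊗ₜ[B] a) = m ⊗ₜ[D] ((1 : D) ⊗ₜ[B] a) := by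
  rw [LinearEquiv.symm_apply_eq, AlgebraTensorModule.cancelBaseChange_tmul, one_smul]

/-- `(w ⊗ a) ↦ w ⊗ (1 ⊗ a)` in two steps. -/
noncomputable def GG : (M ⊗[B] A) ⊗[B] A →ₗ[D] (M ⊗[D] (D ⊗[B] A)) ⊗[D] (D ⊗[B] A) :=
  ((AlgebraTensorModule.cancelBaseChange B D D M A).symm.toLinearMap.rTensor (D ⊗[B] A)) ∘ₗ
    (AlgebraTensorModule.cancelBaseChange B D D (M ⊗[B] A) A).symm.toLinearMap

omit [HopfRep.Comod B A M] in
theorem GG_tmul (w : M ⊗[B] A) (a : A) :
    GG B A D M (w ⊗ₜ[B] a) =
      (AlgebraTensorModule.cancelBaseChange B D D M A).symm w ⊗ₜ[D] ((1 : D) ⊗ₜ[B] a) := by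
  rw [GG, LinearMap.comp_apply, LinearEquiv.coe_coe, cancel_symm_tmul]
  rfl

omit [HopfRep.Comod B A M] in
theorem coactAux_cancel (w : M ⊗[B] A) :
    Hoch.Ind.coactAux D (D ⊗[B] A) M ((AlgebraTensorModule.cancelBaseChange B D D M A).symm w) =
      GG B A D M ((TensorProduct.assoc B M A A).symm
        ((CoalgebraStruct.comul (R := B) (A := A)).lTensor M w)) := by
  induction w using TensorProduct.induction_on with
  | zero => simp
  | add x y hx hy => simp only [map_add, hx, hy]
  | tmul m a =>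
    rw [cancel_symm_tmul, Hoch.Ind.coactAux_tmul, LinearMap.lTensor_tmul, K915.HochBC.comul_one_tmul]
    generalize Coalgebra.comul (R := B) a = u
    induction u using TensorProduct.induction_on with
    | zero => simp
    | add x y hx hy => simp only [TensorProduct.tmul_add, map_add, hx, hy]
    | tmul a b =>
      rw [K915.HochBC.distrib_tmul, TensorProduct.assoc_symm_tmul, TensorProduct.assoc_symm_tmul, GG_tmul,
        cancel_symm_tmul]

theorem rTensor_galInd (w : M ⊗[B] A) :
    (galInd B A D M).rTensor (D ⊗[B] A) (AlgebraTensorModule.tensorTensorTensorComm B D B D D D M A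
        (((1 : D) ⊗ₜ[D] (1 : D)) ⊗ₜ[B] w)) =
      GG B A D M ((HopfRep.Comod.coact (k := B) (A := A) : M →ₗ[B] M ⊗[B] A).rTensor A w) := by
  induction w using TensorProduct.induction_on with
  | zero => simp; rfl
  | add x y hx hy => simp only [TensorProduct.tmul_add, map_add, hx, hy]; rfl
  | tmul m a =>
    rw [LinearMap.rTensor_tmul, GG_tmul]
    change galInd B A D M ((1 : D) ⊗ₜ[B] m) ⊗ₜ[D] ((1 : D) ⊗ₜ[B] a) = _
    congr 1
    change (AlgebraTensorModule.cancelBaseChange B D D M A).symm (gal B A D M ((1 : D) ⊗ₜ[B] m)) = _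
    rw [gal_tmul, one_smul]

theorem galInd_key (m : M) :
    letI := CoactBr.Comod.baseChange B D A M
    (HopfRep.Comod.coact (k := D) (A := D ⊗[B] A) ∘ₗ galInd B A D M) ((1 : D) ⊗ₜ[B] m) =
      ((galInd B A D M).rTensor (D ⊗[B] A) ∘ₗ HopfRep.Comod.coact (k := D) (A := D ⊗[B] A))
        ((1 : D) ⊗ₜ[B] m) := by
  let _ : HopfRep.Comod D (D ⊗[B] A) (D ⊗[B] M) := CoactBr.Comod.baseChange B D A M
  change Hoch.Ind.coactAux D (D ⊗[B] A) M
      ((AlgebraTensorModule.cancelBaseChange B D D M A).symm (gal B A D M ((1 : D) ⊗ₜ[B] m))) =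
    (galInd B A D M).rTensor (D ⊗[B] A) ((CoactBr.Comod.baseChange B D A M).coact ((1 : D) ⊗ₜ[B] m))
  rw [gal_tmul, one_smul, coactAux_cancel, CoactBr.baseChange_coact_tmul, rTensor_galInd,
    ← CoactBr.comod_coassoc_apply, LinearEquiv.symm_apply_apply]

theorem galInd_comodHom :
    letI := CoactBr.Comod.baseChange B D A M
    Hoch.IsComodHom (k := D) (D ⊗[B] A) (galInd B A D M) := by
  let _ : HopfRep.Comod D (D ⊗[B] A) (D ⊗[B] M) := CoactBr.Comod.baseChange B D A M
  have key : ∀ m : M, (HopfRep.Comod.coact (k := D) (A := D ⊗[B] A) ∘ₗ galInd B A D M) ((1 : D) ⊗ₜ[B] m) =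
      ((galInd B A D M).rTensor (D ⊗[B] A) ∘ₗ HopfRep.Comod.coact (k := D) (A := D ⊗[B] A))
        ((1 : D) ⊗ₜ[B] m) := by
    intro m
    exact galInd_key B A D M m
  refine LinearMap.ext fun x => ?_
  induction x using TensorProduct.induction_on with
  | zero => rw [map_zero, map_zero]
  | add x y hx hy => rw [map_add, map_add, hx, hy]
  | tmul d m =>
    have h1 : d ⊗ₜ[B] m = d • ((1 : D) ⊗ₜ[B] m) := by
      rw [TensorProduct.smul_tmul', smul_eq_mul, mul_one]
    rw [h1, map_smul, map_smul, key]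

/-- **T1, one ring form.** -/
theorem acyc_of_galois [Module.FaithfullyFlat B D] (h : Function.Bijective (gal B A D M)) (n : ℕ) :
    Hoch.cocycles B A M (n + 1) ≤ Hoch.coboundaries B A M (n + 1) := by
  refine acyc_of_baseChange B A M D n ?_
  exact @acyc_of_ind D _ (D ⊗[B] A) _ _ (D ⊗[B] M) _ _ (CoactBr.Comod.baseChange B D A M) M _ _
    (galInd B A D M) (galInd_comodHom B A D M) (galInd_bijective B A D M h) n

end Galois

end Groth.Agent.ResProp.EF.K849
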