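import Groth.Agent.ResProp.EF.K849.T1
import Groth.Agent.ResProp.EF.K83.Nodes

/-!
# Node T1 of G6a in the form of `K83/Nodes.lean`
-/

set_option autoImplicit false
universe u

namespace Groth.Agent.ResProp.EF.K849

open Groth.Agent.ResProp.EF.K83

theorem stmtT1 : StmtT1.{u} := by
  intro R _ A _ _ _ D _ _ c s g M _ _ _ _ co hM j
  exact T1 g M co hM j

end Groth.Agent.ResProp.EF.K849
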